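import Cfsg.Agent.Lib.Chevalley.Data.E6
import Cfsg.Agent.Lib.Chevalley.Group

/-!
Matrices with entries 0 and 1 on the 78 coordinates of type E₆, coded by bit strings of their columns, over a
ring with 2 = 0; centralisers of sets of such matrices with a cyclic vector.
-/

set_option autoImplicit false

namespace CfsgLib.Chevalley.FiInE6

/-- The coordinates. -/
abbrev I6 : Type := (Data.E6.tbl).I

/-- The position of a coordinate. -/
def pos (i : I6) : ℕ := (finSumFinEquiv i).val

theorem card_pos : Data.E6.tbl.rank + Data.E6.tbl.n = 78 := rfl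

theorem pos_lt (i : I6) : pos i < 78 := card_pos ▸ (finSumFinEquiv i).isLt

theorem pos_injective : Function.Injective pos := fun _ _ h => finSumFinEquiv.injective (Fin.ext h)

/-- The coordinate at a position. -/
def unpos (k : Fin 78) : I6 := finSumFinEquiv.symm (Fin.cast card_pos.symm k)

theorem pos_unpos (k : Fin 78) : pos (unpos k) = k.val := by simp [pos, unpos]

theorem sum_pos {M : Type*} [AddCommMonoid M] (f : ℕ → M) :
    ∑ i : I6, f (pos i) = ∑ k ∈ Finset.range 78, f k := by
  rw [← Fin.sum_univ_eq_sum_range f 78]
  exact Fintype.sum_equiv (finSumFinEquiv.trans (finCongr card_pos)) _ _ fun i => rfl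

variable {K : Type*} [CommRing K]

/-- A bit as a scalar. -/
def bitK (K : Type*) [CommRing K] (v k : ℕ) : K := if v.testBit k then 1 else 0

theorem bitK_xor (h2 : (2 : K) = 0) (u v k : ℕ) : bitK K (u ^^^ v) k = bitK K u k + bitK K v k := by
  simp only [bitK, Nat.testBit_xor]
  cases u.testBit k <;> cases v.testBit k <;> simp [← h2, one_add_one_eq_two]

/-- The matrix with the given columns. -/
def mat (K : Type*) [CommRing K] (C : List ℕ) : Matrix I6 I6 K :=
  Matrix.of fun i j => bitK K (C.getD (pos j) 0) (pos i)

/-- The image of a bit string under a matrix given by columns. -/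
def apL : List ℕ → ℕ → ℕ
  | [], _ => 0
  | c :: C, v => (bif Nat.beq (v % 2) 1 then c else 0) ^^^ apL C (v / 2)

/-- The product. -/
def mulC (A B : List ℕ) : List ℕ := B.map (apL A)

/-- The sum. -/
def addC (A B : List ℕ) : List ℕ := List.zipWith (· ^^^ ·) A B

/-- The identity. -/
def oneC : List ℕ := (List.range 78).map (2 ^ ·)

/-- The zero matrix. -/
def zeroC : List ℕ := List.replicate 78 0

/-- The product of a list. -/
def prodC : List (List ℕ) → List ℕ
  | [] => oneC
  | A :: l => mulC A (prodC l)

theorem bitK_apL (h2 : (2 : K) = 0) (C : List ℕ) (v i : ℕ) :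
    bitK K (apL C v) i = ∑ k ∈ Finset.range C.length, bitK K v k * bitK K (C.getD k 0) i := by
  induction C generalizing v with
  | nil => simp [apL, bitK]
  | cons c C ih =>
    rw [apL, bitK_xor h2, ih, List.length_cons, Finset.sum_range_succ']
    rw [add_comm]
    congr 1
    · refine Finset.sum_congr rfl fun k _ => ?_
      rw [List.getD_cons_succ]
      simp only [bitK, Nat.testBit_succ]
    · rw [List.getD_cons_zero]
      simp only [bitK, Nat.testBit_zero]
      by_cases h : v % 2 = 1
      · simp [h]
      · simp [h, show Nat.beq (v % 2) 1 = false from Bool.eq_false_iff.mpr fun e => h (Nat.eq_of_beq_eq_true e)]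

theorem mulC_length {A B : List ℕ} (h : B.length = 78) : (mulC A B).length = 78 := by simp [mulC, h]

theorem addC_length {A B : List ℕ} (ha : A.length = 78) (hb : B.length = 78) : (addC A B).length = 78 := by
  simp [addC, ha, hb]

theorem prodC_length : ∀ l : List (List ℕ), (prodC l).length = 78
  | [] => by simp [prodC, oneC]
  | A :: l => mulC_length (prodC_length l)

theorem mat_mulC (h2 : (2 : K) = 0) {A B : List ℕ} (ha : A.length = 78) (hb : B.length = 78) :
    mat K (mulC A B) = mat K A * mat K B := by
  ext i j
  have hj : pos j < B.length := hb ▸ pos_lt j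
  simp only [mat, Matrix.of_apply, Matrix.mul_apply, mulC]
  rw [List.getD_eq_getElem _ _ (by simpa using hj), List.getElem_map, bitK_apL h2, ha,
    sum_pos fun k => bitK K (A.getD k 0) (pos i) * bitK K (B.getD (pos j) 0) k]
  exact Finset.sum_congr rfl fun k _ => by rw [mul_comm, List.getD_eq_getElem _ _ hj]

theorem mat_addC (h2 : (2 : K) = 0) {A B : List ℕ} (ha : A.length = 78) (hb : B.length = 78) :
    mat K (addC A B) = mat K A + mat K B := by
  ext i j
  have hja : pos j < A.length := ha ▸ pos_lt j
  have hjb : pos j < B.length := hb ▸ pos_lt j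
  simp only [mat, Matrix.of_apply, Matrix.add_apply, addC]
  rw [List.getD_eq_getElem _ _ (by simp; omega), List.getElem_zipWith, bitK_xor h2,
    List.getD_eq_getElem _ _ hja, List.getD_eq_getElem _ _ hjb]

theorem mat_one : mat K oneC = 1 := by
  ext i j
  simp only [mat, Matrix.of_apply, oneC]
  rw [List.getD_eq_getElem _ _ (by simpa using pos_lt j), List.getElem_map, List.getElem_range]
  simp only [bitK, Nat.testBit_two_pow, Matrix.one_apply, decide_eq_true_eq]
  by_cases h : i = j
  · subst h; simp
  · rw [if_neg h, if_neg fun e => h (pos_injective e.symm)]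

theorem mat_zero : mat K zeroC = 0 := by
  ext i j
  simp only [mat, Matrix.of_apply, zeroC, Matrix.zero_apply]
  rw [List.getD_eq_getElem _ _ (by simpa using pos_lt j), List.getElem_replicate]
  simp [bitK]

theorem mat_prodC (h2 : (2 : K) = 0) : ∀ l : List (List ℕ), (∀ A ∈ l, A.length = 78) →
    mat K (prodC l) = (l.map (mat K)).prod
  | [], _ => by simpa [prodC] using mat_one
  | A :: l, h => by
    rw [prodC, mat_mulC h2 (h A List.mem_cons_self) (prodC_length l),
      mat_prodC h2 l fun B hB => h B (List.mem_cons_of_mem _ hB), List.map_cons, List.prod_cons]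

/-- The only column is `v`, at position `p`. -/
def colC (v p : ℕ) : List ℕ := (List.range 78).map fun k => bif Nat.beq k p then v else 0

theorem colC_length (v p : ℕ) : (colC v p).length = 78 := by simp [colC]

theorem mat_colC_apply (v p : ℕ) (i j : I6) :
    mat K (colC v p) i j = if pos j = p then bitK K v (pos i) else 0 := by
  simp only [mat, Matrix.of_apply, colC]
  rw [List.getD_eq_getElem _ _ (by simpa using pos_lt j), List.getElem_map, List.getElem_range]
  by_cases h : pos j = p
  · simp [h]
  · rw [if_neg h, show Nat.beq (pos j) p = false from Bool.eq_false_iff.mpr fun e => h (Nat.eq_of_beq_eq_true e)]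
    simp [bitK]

/-- Matrices commuting with a matrix whose kernel is a line, and with matrices moving that line to a
basis, are scalar. -/
theorem exists_scalar (h2 : (2 : K) = 0) {c : Matrix I6 I6 K} {A R B Bi : List ℕ} {v : ℕ} (p : Fin 78)
    (hA : A.length = 78) (hR : R.length = 78) (hB : B.length = 78) (hBi : Bi.length = 78)
    (hRA : addC (mulC R A) (colC v p) = oneC) (hAv : mulC A (colC v p) = zeroC)
    (hBB : mulC B Bi = oneC) (hcA : c * mat K A = mat K A * c)
    (hcol : ∀ j : Fin 78, ∃ M : List ℕ, M.length = 78 ∧ c * mat K M = mat K M * c ∧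
      apL M v = B.getD j.val 0) :
    ∃ a : K, c = a • 1 := by
  set V := mat K (colC v p) with hV
  have hVl := colC_length v p
  have e1 : mat K R * mat K A + V = 1 := by
    rw [← mat_mulC h2 hR hA, ← mat_addC h2 (mulC_length hA) hVl, hRA, mat_one]
  have e2 : mat K A * V = 0 := by rw [← mat_mulC h2 hA hVl, hAv, mat_zero]
  set a := (c * V) (unpos p) (unpos p) with ha
  have hcV : c * V = a • V := by
    have e3 : c * V = V * (c * V) := by
      calc c * V = (mat K R * mat K A + V) * (c * V) := by rw [e1, one_mul]
        _ = mat K R * (mat K A * c) * V + V * (c * V) := by rw [add_mul]; simp [mul_assoc]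
        _ = mat K R * c * (mat K A * V) + V * (c * V) := by rw [← hcA]; simp [mul_assoc]
        _ = _ := by rw [e2, mul_zero, zero_add]
    ext i j
    rw [Matrix.smul_apply, smul_eq_mul]
    by_cases hj : pos j = p.val
    · have hj' : j = unpos p := pos_injective (by rw [hj, pos_unpos])
      subst hj'
      conv_lhs => rw [e3, Matrix.mul_apply]
      rw [Finset.sum_eq_single (unpos p) (fun k _ hk => ?_) (fun h => absurd (Finset.mem_univ _) h)]
      · rw [← ha, mul_comm]
      · rw [hV, mat_colC_apply, if_neg fun e => hk (pos_injective (by rw [e, pos_unpos])), zero_mul]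
    · have h0 : ∀ k, V k j = 0 := fun k => by rw [hV, mat_colC_apply, if_neg hj]
      rw [Matrix.mul_apply, h0]
      simp [h0]
  have hcB : c * mat K B = a • mat K B := by
    ext i j
    obtain ⟨M, hM, hcM, he⟩ := hcol ⟨pos j, pos_lt j⟩
    have e4 : c * (mat K M * V) = a • (mat K M * V) := by
      rw [← mul_assoc, hcM, mul_assoc, hcV, Matrix.mul_smul]
    have e5 : ∀ k, (mat K M * V) k (unpos p) = mat K B k j := fun k => by
      rw [← mat_mulC h2 hM hVl]
      simp only [mat, Matrix.of_apply, mulC]
      rw [List.getD_eq_getElem _ _ (by simp [colC]; exact pos_lt _), List.getElem_map]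
      simp only [colC, List.getElem_map, List.getElem_range, pos_unpos]
      rw [show Nat.beq p.val p.val = true from Nat.beq_refl _, cond_true, he]
    have e6 := congrFun (congrFun e4 i) (unpos p)
    rw [Matrix.mul_apply] at e6
    rw [Matrix.mul_apply, Matrix.smul_apply, ← e5 i, ← Matrix.smul_apply, ← e6]
    exact Finset.sum_congr rfl fun k _ => by rw [e5]
  refine ⟨a, ?_⟩
  calc c = c * mat K B * mat K Bi := by rw [mul_assoc, ← mat_mulC h2 hB hBi, hBB, mat_one, mul_one]
    _ = a • 1 := by rw [hcB, Matrix.smul_mul, ← mat_mulC h2 hB hBi, hBB, mat_one]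

end CfsgLib.Chevalley.FiInE6
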