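import Cfsg.Agent.Lib.Chevalley.FiInE6.Fast
import Cfsg.Agent.Lib.Chevalley.FiInE6.Data
import Cfsg.Agent.Lib.Sporadic.FiCoding

/-!
The relations of Fi22 among the nine involutions, and the certificate for their centraliser.
-/

set_option autoImplicit false
set_option maxRecDepth 100000
set_option Elab.async false

namespace CfsgLib.Chevalley.FiInE6

open Cfsg Cfsg.Spor CfsgLib.Sporadic.CosetCert

/-- The code of an involution. -/
def invA (k : ℕ) : List ℕ := invC.getD k oneC

/-- The code of a word in the involutions. -/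
def wordC (w : List ℕ) : List ℕ := prodC (w.map invA)

/-- The word of an involution in the generators of ²E₆(2). -/
def pal (k : ℕ) : List ℕ := conjW.getD k [] ++ [0] ++ (conjW.getD k []).reverse

/-- The relators as words. -/
def relW : List (List ℕ) :=
  (FiP.gens.flatMap fun x => FiP.gens.map fun y =>
    ((FreeGroup.of x * FreeGroup.of y) ^ coxLabel Fi22.edges x y).toWord.map fun e => FiP.code e.1) ++
  Fi22.extra.map fun r => r.toWord.map fun e => FiP.code e.1

/-- The sum of the words with a line as kernel. -/
def kerA : List ℕ := kerW.foldr (fun w C => addC (wordC w) C) zeroC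

theorem genC_ok : genC.all (fun C => Nat.beq C.length 78) = true ∧ genC.length = 12 := by decide +kernel

theorem invA_len : ∀ k < 9, (invA k).length = 78 := by decide +kernel

theorem genC_okM : ∀ g < 12, okM (genC.getD g []) = true := by decide +kernel

theorem invA_okM : ∀ k, okM (invA k) = true := by
  intro k
  by_cases hk : k < 9
  · have h : ∀ k < 9, okM (invA k) = true := by decide +kernel
    exact h k hk
  · rw [invA, List.getD_eq_default _ _ (le_trans (le_of_eq (by decide +kernel : invC.length = 9)) (not_lt.mp hk))]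
    exact okM_one

theorem wordC_fast (w : List ℕ) : prodF (w.map invA) = wordC w ∧ okM (wordC w) = true :=
  prodF_eq fun A hA => by
    obtain ⟨k, -, rfl⟩ := List.mem_map.mp hA
    exact invA_okM k

theorem pal_ok {k : ℕ} (hk : k < 9) : (∀ g ∈ pal k, g < 12) ∧
    prodC ((pal k).map fun g => genC.getD g []) = invA k := by
  have h : ∀ k < 9, (pal k).all (fun g => Nat.blt g 12) = true ∧
      prodF ((pal k).map fun g => genC.getD g []) = invA k := by decide +kernel
  obtain ⟨h1, h3⟩ := h k hk
  have hg : ∀ g ∈ pal k, g < 12 := fun g hg => Nat.le_of_ble_eq_true (List.all_eq_true.mp h1 g hg)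
  refine ⟨hg, ?_⟩
  rw [← (prodF_eq fun A hA => ?_).1, h3]
  obtain ⟨g, hg', rfl⟩ := List.mem_map.mp hA
  exact genC_okM g (hg g hg')

theorem sq_ok {k : ℕ} (hk : k < 9) : mulC (invA k) (invA k) = oneC := by
  have h : ∀ k < 9, mulF (invA k) (invA k) = oneC := by decide +kernel
  rw [← (mulF_eq (invA_okM k) (invA_okM k)).1, h k hk]

theorem rel_ok : ∀ w ∈ relW, wordC w = oneC := by
  have h : ∀ w ∈ relW, prodF (w.map invA) = oneC := by decide +kernel
  exact fun w hw => (wordC_fast w).1.symm.trans (h w hw)

theorem inv0_ne : (Nat.testBit ((invA 0).getD 40 0) 40 = false) ∨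
    ∃ i < 78, i ≠ 40 ∧ Nat.testBit ((invA 0).getD 40 0) i = true := by decide +kernel

theorem ker_ok : (kerA.length = 78 ∧ kerR.length = 78 ∧ spinB.length = 78 ∧ spinI.length = 78) ∧
    addC (mulC kerR kerA) (colC kerV kerP) = oneC ∧ mulC kerA (colC kerV kerP) = zeroC ∧
    mulC spinB spinI = oneC := by decide +kernel

theorem kerW_ok : kerW.all (fun w => w.all fun k => Nat.blt 0 k && Nat.blt k 9) = true := by decide +kernel

theorem spin_ok {j : ℕ} (hj : j < 78) :
    (spinW.getD j []).all (fun k => Nat.blt 0 k && Nat.blt k 9) = true ∧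
    apL (wordC (spinW.getD j [])) kerV = spinB.getD j 0 := by
  have h : ∀ j < 78, (spinW.getD j []).all (fun k => Nat.blt 0 k && Nat.blt k 9) = true ∧
      apL (prodF ((spinW.getD j []).map invA)) kerV = spinB.getD j 0 := by decide +kernel
  rw [← (wordC_fast _).1]
  exact h j hj

end CfsgLib.Chevalley.FiInE6
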