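import Cfsg.Agent.Lib.Chevalley.FiInE6.Gens
import Cfsg.Agent.Lib.Chevalley.FiInE6.Rels
import Cfsg.Agent.Lib.Chevalley.F4InE6.Twisted
import Cfsg.Agent.Lib.Sporadic.FiPresented

/-!
The homomorphism from Fi22 into ²E₆(2), and the centraliser of the image of O₇(3).
-/

set_option autoImplicit false
set_option maxRecDepth 20000

namespace CfsgLib.Chevalley.FiInE6

open Tbl Matrix CfsgLib.Sporadic Cfsg Cfsg.Spor CfsgLib.Sporadic.CosetCert

local notation "T6" => Data.E6.tbl

variable {K : Type*} [Field K] (φ : FieldFour →+* K)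

include φ in
theorem two_eq_zero : (2 : K) = 0 := by
  rw [show (2 : K) = φ 2 from (map_ofNat φ 2).symm, show (2 : FieldFour) = 0 by decide, map_zero]

theorem mat_map (C : List ℕ) : φ.mapMatrix (mat FieldFour C) = mat K C := by
  ext i j
  simp only [RingHom.mapMatrix_apply, Matrix.map_apply, mat, Matrix.of_apply, bitK]
  split <;> simp

/-- The change of basis. -/
noncomputable def baseP : Matrix I6 I6 K := φ.mapMatrix (spMat colP)

/-- Its inverse. -/
noncomputable def baseQ : Matrix I6 I6 K := φ.mapMatrix (spMat colQ)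

theorem baseP_mul : baseP φ * baseQ φ = 1 ∧ baseQ φ * baseP φ = 1 := by
  constructor
  · rw [baseP, baseQ, ← map_mul, chkInv_sound chk_inv.1, map_one]
  · rw [baseP, baseQ, ← map_mul, chkInv_sound chk_inv.2, map_one]

/-- A code describes an element. -/
def Rel (u : GL I6 K) (C : List ℕ) : Prop := (u : Matrix I6 I6 K) * baseP φ = baseP φ * mat K C

theorem rel_one : Rel φ 1 oneC := by rw [Rel, Units.val_one, one_mul, mat_one, mul_one]

theorem rel_mul {u v : GL I6 K} {A B : List ℕ} (hA : A.length = 78) (hB : B.length = 78) (hu : Rel φ u A)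
    (hv : Rel φ v B) : Rel φ (u * v) (mulC A B) := by
  rw [Rel, Units.val_mul, mat_mulC (two_eq_zero φ) hA hB, mul_assoc, show _ = _ from hv, ← mul_assoc,
    show _ = _ from hu, mul_assoc]

theorem rel_prod {α : Type*} (f : α → GL I6 K) (c : α → List ℕ) : ∀ l : List α,
    (∀ a ∈ l, (c a).length = 78 ∧ Rel φ (f a) (c a)) → Rel φ (l.map f).prod (prodC (l.map c))
  | [], _ => rel_one φ
  | a :: l, h => by
    rw [List.map_cons, List.map_cons, List.prod_cons, prodC]
    obtain ⟨h1, h3⟩ := h a List.mem_cons_self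
    exact rel_mul φ h1 (prodC_length _) h3 (rel_prod f c l fun b hb => h b (List.mem_cons_of_mem _ hb))

theorem rel_eq {u : GL I6 K} {C : List ℕ} (h : Rel φ u C) :
    (u : Matrix I6 I6 K) = baseP φ * mat K C * baseQ φ := by
  rw [← show _ = _ from h, mul_assoc, (baseP_mul φ).1, mul_one]

theorem rel_unique {u v : GL I6 K} {C : List ℕ} (hu : Rel φ u C) (hv : Rel φ v C) : u = v :=
  Units.ext ((rel_eq φ hu).trans (rel_eq φ hv).symm)

/-- The word of a generator. -/
def genWord (g : ℕ) : List (ℕ × K) := (genW.getD g []).map fun p => (p.1, φ (toF p.2))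

/-- A generator of ²E₆(2). -/
noncomputable def genU (g : ℕ) : GL I6 K := ((genWord φ g).map fun p => (T6).xU K p.1 p.2).prod

theorem genU_mem {g : ℕ} (hg : g < 12) : genU φ g ∈ F4InE6.twisted K := by
  refine F4InE6.word_mem_twisted ?_
  have single : ∀ r ∈ [46, 25, 39, 32], genW.getD g [] = [(r, 1)] → genWord φ g ∈ Lie.e6Words K 2 :=
    fun r hr e => Or.inl ⟨1, one_pow _, r, hr, by rw [genWord, e]; simp [toF]⟩
  have pair : ∀ p ∈ [(56, 36), (15, 35), (42, 37), (29, 34)], ∀ a b, genW.getD g [] = [(p.1, a), (p.2, b)] →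
      toF b = toF a ^ 2 → genWord φ g ∈ Lie.e6Words K 2 :=
    fun p hp a b e h => Or.inr ⟨φ (toF a), p, hp, by rw [genWord, e]; simp [h]⟩
  interval_cases g
  · exact single 46 (by simp) rfl
  · exact single 25 (by simp) rfl
  · exact single 39 (by simp) rfl
  · exact single 32 (by simp) rfl
  · exact pair (56, 36) (by simp) 1 1 rfl (by decide)
  · exact pair (56, 36) (by simp) 2 3 rfl (by decide)
  · exact pair (15, 35) (by simp) 1 1 rfl (by decide)
  · exact pair (15, 35) (by simp) 2 3 rfl (by decide)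
  · exact pair (42, 37) (by simp) 1 1 rfl (by decide)
  · exact pair (42, 37) (by simp) 2 3 rfl (by decide)
  · exact pair (29, 34) (by simp) 1 1 rfl (by decide)
  · exact pair (29, 34) (by simp) 2 3 rfl (by decide)

theorem rel_gen {g : ℕ} (hg : g < 12) : Rel φ (genU φ g) (genC.getD g []) := by
  have h := chk_gen hg
  have hlt : ∀ p ∈ genWord φ g, p.1 < (T6).n := by
    rw [chkGen, chkWord, Bool.and_eq_true, List.all_eq_true] at h
    intro p hp
    obtain ⟨q, hq, rfl⟩ := List.mem_map.mp hp
    exact Nat.le_of_ble_eq_true (h.1 (q.1, toF q.2) (List.mem_map.mpr ⟨q, hq, rfl⟩))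
  have e := congrArg φ.mapMatrix (chkWord_sound (chk_gen hg))
  rw [map_mul, map_mul, mat_map, map_list_prod, List.map_map] at e
  rw [Rel, baseP, ← e]
  congr 1
  show Units.coeHom _ (List.prod _) = _
  rw [map_list_prod, List.map_map, genWord, List.map_map, List.map_map]
  refine congrArg List.prod (List.map_congr_left fun q hq => ?_)
  simp only [Function.comp_apply, Units.coeHom_apply]
  rw [xU_val Data.E6.valid (hlt (q.1, φ (toF q.2)) (List.mem_map.mpr ⟨q, hq, rfl⟩)), map_X]

/-- One of the nine involutions. -/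
noncomputable def invU (k : ℕ) : GL I6 K := ((pal k).map (genU φ)).prod

theorem invU_mem {k : ℕ} (hk : k < 9) : invU φ k ∈ F4InE6.twisted K :=
  list_prod_mem fun u hu => by
    obtain ⟨g, hg, rfl⟩ := List.mem_map.mp hu
    exact genU_mem φ ((pal_ok hk).1 g hg)

theorem rel_inv {k : ℕ} (hk : k < 9) : Rel φ (invU φ k) (invA k) := by
  rw [← (pal_ok hk).2]
  exact rel_prod φ _ _ _ fun g hg =>
    ⟨(okM_iff.mp (genC_okM g ((pal_ok hk).1 g hg))).1, rel_gen φ ((pal_ok hk).1 g hg)⟩

theorem rel_word {w : List ℕ} (hw : ∀ k ∈ w, k < 9) : Rel φ (w.map (invU φ)).prod (wordC w) :=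
  rel_prod φ _ _ _ fun k hk => ⟨(okM_iff.mp (invA_okM k)).1, rel_inv φ (hw k hk)⟩

theorem invU_inv {k : ℕ} (hk : k < 9) : (invU φ k)⁻¹ = invU φ k := by
  refine inv_eq_of_mul_eq_one_right (rel_unique φ ?_ (rel_one φ))
  have := rel_mul φ (okM_iff.mp (invA_okM k)).1 (okM_iff.mp (invA_okM k)).1 (rel_inv φ hk) (rel_inv φ hk)
  rwa [sq_ok hk] at this

theorem code_lt (x : Fi22.Gen) : FiP.code x < 9 := by cases x <;> decide

theorem lift_one {w : FreeGroup Fi22.Gen} (hw : (w.toWord.map fun e => FiP.code e.1) ∈ relW) :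
    FreeGroup.lift (fun x => invU φ (FiP.code x)) w = 1 := by
  refine rel_unique φ ?_ (rel_one φ)
  rw [← FreeGroup.mk_toWord (x := w), FreeGroup.lift_mk, ← rel_ok _ hw]
  have h := rel_word φ (w := w.toWord.map fun e => FiP.code e.1)
    (fun k hk => by obtain ⟨e, -, rfl⟩ := List.mem_map.mp hk; exact code_lt _)
  rw [List.map_map] at h
  refine Eq.subst (motive := fun L => Rel φ L.prod _) (List.map_congr_left fun e _ => ?_) h
  rcases e with ⟨x, b⟩
  cases b
  · exact (invU_inv φ (code_lt x)).symm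
  · rfl

/-- The homomorphism from Fi22. -/
noncomputable def hom : Fi22 →* GL I6 K :=
  PresentedGroup.toGroup (f := fun x => invU φ (FiP.code x)) (by
    rintro r (⟨x, -, y, -, rfl⟩ | hr)
    · refine lift_one φ (List.mem_append_left _ ?_)
      have hx : ∀ x : Fi22.Gen, x ∈ FiP.gens := fun x => List.mem_of_getElem? (FiP.gens_getElem x)
      exact List.mem_flatMap.mpr ⟨x, hx x, List.mem_map.mpr ⟨y, hx y, rfl⟩⟩
    · exact lift_one φ (List.mem_append_right _ (List.mem_map.mpr ⟨r, hr, rfl⟩)))

theorem hom_mk_of (x : Fi22.Gen) :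
    hom φ (PresentedGroup.mk (coxRelators Fi22.edges ∪ {r | r ∈ Fi22.extra}) (FreeGroup.of x)) =
      invU φ (FiP.code x) :=
  PresentedGroup.toGroup.of _

theorem hom_mem (a : Fi22) : hom φ a ∈ F4InE6.twisted K := by
  suffices (⊤ : Subgroup Fi22) ≤ (F4InE6.twisted K).comap (hom φ) from this (Subgroup.mem_top a)
  rw [← PresentedGroup.closure_range_of, Subgroup.closure_le]
  rintro _ ⟨x, rfl⟩
  show hom φ _ ∈ F4InE6.twisted K
  rw [show PresentedGroup.of x = PresentedGroup.mk _ (FreeGroup.of x) from rfl, hom_mk_of]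
  exact invU_mem φ (code_lt x)

theorem invU_zero_ne : invU φ 0 ≠ 1 := by
  intro h
  have h1 := rel_inv φ (show 0 < 9 by norm_num)
  rw [h, Rel, Units.val_one, one_mul] at h1
  have h3 : mat K (invA 0) = 1 := by
    have := congrArg (fun M => baseQ φ * M) h1
    simp only [← mul_assoc, (baseP_mul φ).2, one_mul] at this
    exact this.symm
  let q : I6 := unpos ⟨40, by norm_num⟩
  have hq : pos q = 40 := pos_unpos _
  rcases inv0_ne with e | ⟨i, hi, hne, e⟩
  · have := congrFun (congrFun h3 q) q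
    simp only [mat, Matrix.of_apply, Matrix.one_apply_eq, bitK, hq, e] at this
    exact zero_ne_one this
  · have hp : pos (unpos ⟨i, hi⟩) = i := pos_unpos _
    have := congrFun (congrFun h3 (unpos ⟨i, hi⟩)) q
    rw [Matrix.one_apply_ne fun e' => hne (by rw [← hp, e', hq])] at this
    simp only [mat, Matrix.of_apply, bitK, hq, hp, e] at this
    exact one_ne_zero this

theorem hom_injective : Function.Injective (hom φ) := by
  have := FiP.isSimple
  rw [← MonoidHom.ker_eq_bot_iff]
  rcases (MonoidHom.normal_ker (hom φ)).eq_bot_or_eq_top with h | h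
  · exact h
  · exfalso
    have h1 : hom φ (PresentedGroup.mk _ (FreeGroup.of Fi22.Gen.a)) = 1 :=
      MonoidHom.mem_ker.mp (h ▸ Subgroup.mem_top _)
    rw [hom_mk_of] at h1
    exact invU_zero_ne φ h1

theorem scalar_of_commute {u : GL I6 K} (hu : ∀ k, 0 < k → k < 9 → Commute u (invU φ k)) :
    ∃ a : K, (u : Matrix I6 I6 K) = a • 1 := by
  have h2 := two_eq_zero φ
  set c := baseQ φ * (u : Matrix I6 I6 K) * baseP φ with hc
  have hw : ∀ w : List ℕ, (w.all fun k => Nat.blt 0 k && Nat.blt k 9) = true →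
      c * mat K (wordC w) = mat K (wordC w) * c := by
    intro w hw
    rw [List.all_eq_true] at hw
    have hb : ∀ k ∈ w, 0 < k ∧ k < 9 := fun k hk => by
      have := hw k hk
      rw [Bool.and_eq_true] at this
      exact ⟨Nat.le_of_ble_eq_true this.1, Nat.le_of_ble_eq_true this.2⟩
    have hcm : Commute u (w.map (invU φ)).prod := Commute.list_prod_right _ _ fun x hx => by
      obtain ⟨k, hk, rfl⟩ := List.mem_map.mp hx
      exact hu k (hb k hk).1 (hb k hk).2
    have hr : _ = _ := rel_word φ (w := w) fun k hk => (hb k hk).2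
    have hr' : mat K (wordC w) * baseQ φ =
        baseQ φ * (((w.map (invU φ)).prod : GL I6 K) : Matrix I6 I6 K) := by
      rw [rel_eq φ hr, ← mul_assoc, ← mul_assoc, (baseP_mul φ).2, one_mul]
    calc c * mat K (wordC w) = baseQ φ * (u : Matrix I6 I6 K) * (baseP φ * mat K (wordC w)) := by
          rw [hc, mul_assoc]
      _ = baseQ φ * ((u * (w.map (invU φ)).prod : GL I6 K) : Matrix I6 I6 K) * baseP φ := by
          rw [← hr, Units.val_mul]; simp only [mul_assoc]
      _ = mat K (wordC w) * baseQ φ * (u : Matrix I6 I6 K) * baseP φ := by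
          rw [hcm.eq, Units.val_mul, hr']; simp only [mul_assoc]
      _ = _ := by rw [hc]; simp only [mul_assoc]
  obtain ⟨⟨l1, l2, l3, l4⟩, e1, e2, e3⟩ := ker_ok
  have hA : c * mat K kerA = mat K kerA * c := by
    have key : ∀ ws : List (List ℕ), (ws.all fun w => w.all fun k => Nat.blt 0 k && Nat.blt k 9) = true →
        (ws.foldr (fun w C => addC (wordC w) C) zeroC).length = 78 ∧
        c * mat K (ws.foldr (fun w C => addC (wordC w) C) zeroC) =
          mat K (ws.foldr (fun w C => addC (wordC w) C) zeroC) * c := by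
      intro ws
      induction ws with
      | nil => exact fun _ => ⟨by simp [zeroC], by simp [mat_zero]⟩
      | cons w ws ih =>
        intro h
        rw [List.all_cons, Bool.and_eq_true] at h
        obtain ⟨hl, he⟩ := ih h.2
        rw [List.foldr_cons]
        have hw' : (wordC w).length = 78 := prodC_length _
        refine ⟨addC_length hw' hl, ?_⟩
        rw [mat_addC h2 hw' hl, mul_add, add_mul, he, hw w h.1]
    exact (key kerW kerW_ok).2
  obtain ⟨a, ha⟩ := exists_scalar h2 kerP l1 l2 l3 l4 e1 e2 e3 hA fun j =>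
    ⟨wordC (spinW.getD j.val []), prodC_length _, hw _ (spin_ok j.isLt).1, (spin_ok j.isLt).2⟩
  refine ⟨a, ?_⟩
  have e : (u : Matrix I6 I6 K) = baseP φ * c * baseQ φ := by
    rw [hc]
    simp only [← mul_assoc, (baseP_mul φ).1, one_mul]
    rw [mul_assoc, (baseP_mul φ).1, mul_one]
  rw [e, ha, Matrix.mul_smul, Matrix.smul_mul, mul_one, (baseP_mul φ).1]

end CfsgLib.Chevalley.FiInE6
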