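import Cfsg.Agent.Lib.Chevalley.FiInE6.Bits
import Cfsg.Agent.Lib.Chevalley.RootGen

/-!
Sparse evaluation of words in root elements of type E₆.
-/

set_option autoImplicit false

namespace CfsgLib.Chevalley.FiInE6

open Tbl Matrix

local notation "T6" => Data.E6.tbl

variable {R : Type*} [CommRing R]

/-- The coordinate of a position, the first one out of range. -/
def idx (k : ℕ) : I6 := unpos (Fin.ofNat 78 k)

theorem idx_pos (i : I6) : idx (pos i) = i :=
  pos_injective (by rw [idx, pos_unpos]; exact Nat.mod_eq_of_lt (pos_lt i))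

/-- The coefficient of a sparse vector at a position. -/
def coef (l : List (ℕ × R)) (i : ℕ) : R :=
  l.foldr (fun p acc => bif Nat.beq p.1 i then p.2 + acc else acc) 0

/-- The vector of a sparse vector. -/
def vec (l : List (ℕ × R)) : I6 → R := fun i => coef l (pos i)

theorem vec_cons (p : ℕ × R) (l : List (ℕ × R)) (i : I6) :
    vec (p :: l) i = (if p.1 = pos i then p.2 else 0) + vec l i := by
  simp only [vec, coef, List.foldr_cons]
  by_cases h : p.1 = pos i
  · simp [h]
  · rw [if_neg h, zero_add, show Nat.beq p.1 (pos i) = false from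
      Bool.eq_false_iff.mpr fun e => h (Nat.eq_of_beq_eq_true e), cond_false]

theorem coef_map (f : ℕ → R) : ∀ (l : List ℕ) (i : ℕ), l.Nodup →
    coef (l.map fun k => (k, f k)) i = if i ∈ l then f i else 0
  | [], i, _ => by simp [coef]
  | a :: l, i, h => by
    have ih := coef_map f l i (List.nodup_cons.mp h).2
    simp only [coef, List.map_cons, List.foldr_cons] at ih ⊢
    by_cases e : a = i
    · subst e
      rw [Nat.beq_refl, cond_true, ih, if_neg (List.nodup_cons.mp h).1, add_zero, if_pos List.mem_cons_self]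
    · rw [show Nat.beq a i = false from Bool.eq_false_iff.mpr fun e' => e (Nat.eq_of_beq_eq_true e'),
        cond_false, ih]
      simp [Ne.symm e]

/-- The matrix with the given sparse columns. -/
def spMat (col : ℕ → List (ℕ × R)) : Matrix I6 I6 R := Matrix.of fun i j => vec (col (pos j)) i

/-- The combination of sparse columns given by a sparse vector. -/
def comb (col : ℕ → List (ℕ × R)) (l : List (ℕ × R)) : List (ℕ × R) :=
  l.flatMap fun q => (col q.1).map fun p => (p.1, q.2 * p.2)

theorem vec_append (u v : List (ℕ × R)) : vec (u ++ v) = vec u + vec v := by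
  funext i
  induction u with
  | nil => simp [vec, coef]
  | cons p u ih => rw [List.cons_append, vec_cons, ih, Pi.add_apply, Pi.add_apply, vec_cons, add_assoc]

theorem vec_comb (col : ℕ → List (ℕ × R)) : ∀ l : List (ℕ × R), (∀ p ∈ l, p.1 < 78) →
    vec (comb col l) = spMat col *ᵥ vec l
  | [], _ => by funext i; simp [comb, vec, coef, Matrix.mulVec, dotProduct]
  | q :: l, hl => by
    rw [comb, List.flatMap_cons, vec_append, ← comb, vec_comb col l fun p hp => hl p (List.mem_cons_of_mem _ hp)]
    have hq : pos (idx q.1) = q.1 := by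
      rw [idx, pos_unpos]; exact Nat.mod_eq_of_lt (hl q List.mem_cons_self)
    have e : vec (q :: l) = Pi.single (idx q.1) q.2 + vec l := by
      funext k
      rw [vec_cons, Pi.add_apply, Pi.single_apply]
      by_cases hk : k = idx q.1
      · rw [if_pos hk, if_pos (by rw [hk, hq])]
      · rw [if_neg hk, if_neg fun h => hk (pos_injective (by rw [hq, h]))]
    rw [e, Matrix.mulVec_add, Matrix.mulVec_single]
    congr 1
    funext i
    have sc : ∀ m : List (ℕ × R), vec (m.map fun p => (p.1, q.2 * p.2)) i = q.2 * vec m i := by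
      intro m
      induction m with
      | nil => simp [vec, coef]
      | cons p m ih =>
        rw [List.map_cons, vec_cons, vec_cons, ih, mul_add, mul_ite, mul_zero]
    rw [sc]
    show _ = spMat col i (idx q.1) * q.2
    rw [spMat, Matrix.of_apply, hq, mul_comm]

theorem vec_nil : vec ([] : List (ℕ × R)) = 0 := rfl

theorem vec_single (u : ℕ) (hu : u < 78) (c : R) : vec [(u, c)] = Pi.single (idx u) c := by
  funext i
  have hq : pos (idx u) = u := by rw [idx, pos_unpos]; exact Nat.mod_eq_of_lt hu
  rw [vec_cons, vec_nil, Pi.zero_apply, add_zero, Pi.single_apply]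
  by_cases h : i = idx u
  · rw [if_pos h, if_pos (by rw [h, hq])]
  · rw [if_neg h, if_neg fun e => h (pos_injective (e.symm.trans hq.symm))]

/-- A multiple of a root vector, sparse. -/
def rtS (t : R) : Option (ℕ × ℤ) → List (ℕ × R)
  | none => []
  | some (u, m) => [(6 + u, t * (m : R))]

/-- A column of a root element, sparse. -/
def colS (r : ℕ) (t : R) (j : ℕ) : List (ℕ × R) :=
  (j, 1) ::
    bif Nat.blt j 6 then [(6 + r, -(t * ((T6).ca j r : R)))]
    else bif Nat.beq (j - 6) r then []
    else bif Nat.beq (j - 6) ((T6).neg r) then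
      ((List.range 6).map fun i => (i, t * ((T6).cv r i : R))) ++ [(6 + r, -t ^ 2)]
    else rtS t ((T6).chain r (j - 6) 1) ++ rtS (t ^ 2) ((T6).chain r (j - 6) 2) ++
      rtS (t ^ 3) ((T6).chain r (j - 6) 3)

theorem idx_inr (v : Fin (T6).n) : idx (6 + v.val) = Sum.inr v :=
  (congrArg idx (show 6 + v.val = pos (Sum.inr v) from rfl)).trans (idx_pos _)

theorem rootVec_cast {u : ℕ} (hu : u < (T6).n) (c : R) :
    (fun i : I6 => c * (((T6).rootVec u i : ℤ) : R)) = Pi.single (idx (6 + u)) c := by
  funext i
  rw [show (6 + u : ℕ) = 6 + (⟨u, hu⟩ : Fin (T6).n).val from rfl, idx_inr, Pi.single_apply]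
  rcases i with i | v
  · simp [rootVec]
  · simp only [rootVec, Sum.elim_inr, Sum.inr.injEq]
    by_cases h : v = ⟨u, hu⟩
    · subst h; simp
    · rw [if_neg h, if_neg fun e => h (Fin.ext e)]; simp

theorem vec_rtS (t : R) : ∀ o : Option (ℕ × ℤ), (∀ u m, o = some (u, m) → u < (T6).n) →
    (∀ p ∈ rtS t o, p.1 < 78) ∧ vec (rtS t o) = fun i : I6 => t * (((T6).optVec o i : ℤ) : R)
  | none, _ => ⟨by simp [rtS], by funext i; simp [rtS, optVec, vec, coef]⟩
  | some (u, m), h => by
    have hu := h u m rfl
    have h78 : 6 + u < 78 := Nat.add_lt_add_left hu 6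
    refine ⟨by simp [rtS, h78], ?_⟩
    rw [rtS, vec_single _ h78, ← rootVec_cast hu]
    funext i
    simp [optVec, mul_assoc]

theorem colS_spec {r : ℕ} (hr : r < (T6).n) (t : R) (j : I6) :
    (∀ p ∈ colS r t (pos j), p.1 < 78) ∧
      vec (colS r t (pos j)) = fun i => (X R r t : Matrix I6 I6 R) i j := by
  have h78 : 6 + r < 78 := Nat.add_lt_add_left hr 6
  have hX : (fun i => (X R r t : Matrix I6 I6 R) i j) = vec [(pos j, (1 : R))] +
      fun i => t * (((T6).colA r 1 j i : ℤ) : R) + t ^ 2 * ((T6).colA r 2 j i : R) + t ^ 3 * ((T6).colA r 3 j i : R) := by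
    funext i
    simp only [X, Matrix.sum_apply, Matrix.smul_apply, castM, RingHom.mapMatrix_apply, Matrix.map_apply, A_apply,
      smul_eq_mul, Finset.sum_range_succ, Finset.sum_range_zero, zero_add, pow_zero, one_mul, pow_one, Pi.add_apply,
      vec_single _ (pos_lt j), idx_pos]
    rw [show (T6).colA r 0 j i = (Pi.single j (1 : ℤ) : I6 → ℤ) i from rfl, Pi.single_apply, Pi.single_apply]
    by_cases h : i = j <;> simp [h, add_assoc]
  rw [hX, colS]
  rcases j with i | s
  · have hp : pos (Sum.inl i) = i.val := rfl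
    rw [hp, show Nat.blt i.val 6 = true from Nat.ble_eq_true_of_le i.isLt, cond_true]
    refine ⟨fun p h => ?_, ?_⟩
    · simp only [List.mem_cons, List.not_mem_nil, or_false] at h
      rcases h with rfl | rfl
      exacts [Nat.lt_of_lt_of_le i.isLt (by norm_num : 6 ≤ 78), h78]
    · rw [show [(i.val, (1 : R)), (6 + r, -(t * ((T6).ca i r : R)))] =
          [(i.val, (1 : R))] ++ [(6 + r, -(t * ((T6).ca i r : R)))] from rfl, vec_append,
        vec_single (6 + r) h78, ← rootVec_cast hr]
      congr 1
      funext k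
      simp [colA, mul_assoc]
  · have hp : pos (Sum.inr s) = 6 + s.val := rfl
    rw [hp, show Nat.blt (6 + s.val) 6 = false from Bool.eq_false_iff.mpr fun e => by
      have := Nat.le_of_ble_eq_true e; omega, cond_false, Nat.add_sub_cancel_left]
    have hs78 : 6 + s.val < 78 := Nat.add_lt_add_left s.isLt 6
    by_cases h1 : s.val = r
    · rw [h1, Nat.beq_refl, cond_true]
      refine ⟨by simp [h78], ?_⟩
      funext k
      simp [colA, h1]
    rw [show Nat.beq s.val r = false from Bool.eq_false_iff.mpr fun e => h1 (Nat.eq_of_beq_eq_true e), cond_false]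
    by_cases h2 : s.val = (T6).neg r
    · rw [h2, Nat.beq_refl, cond_true, ← h2]
      refine ⟨fun p h => ?_, ?_⟩
      · simp only [List.mem_cons, List.mem_append, List.mem_map, List.mem_range, List.not_mem_nil, or_false] at h
        rcases h with rfl | ⟨a, ha, rfl⟩ | rfl
        exacts [hs78, Nat.lt_of_lt_of_le ha (by norm_num : 6 ≤ 78), h78]
      · rw [← List.singleton_append, vec_append, vec_append, vec_single (6 + r) h78, ← rootVec_cast hr]
        congr 1
        funext k
        have e : vec ((List.range 6).map fun i => (i, t * ((T6).cv r i : R))) k =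
            t * (((T6).coVec r k : ℤ) : R) := by
          rw [show vec ((List.range 6).map fun i => (i, t * ((T6).cv r i : R))) k =
            coef ((List.range 6).map fun i => (i, t * ((T6).cv r i : R))) (pos k) from rfl,
            coef_map (fun i => t * ((T6).cv r i : R)) _ _ List.nodup_range]
          rcases k with a | v
          · rw [show pos (Sum.inl a) = a.val from rfl, if_pos (List.mem_range.mpr (show a.val < 6 from a.isLt))]; rfl
          · rw [if_neg (by simp [show pos (Sum.inr v) = 6 + v.val from rfl])]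
            simp [coVec]
        have h12 : (T6).neg r ≠ r := h2 ▸ h1
        simp [e, colA, h1, h2, h12]
    rw [show Nat.beq s.val ((T6).neg r) = false from
      Bool.eq_false_iff.mpr fun e => h2 (Nat.eq_of_beq_eq_true e), cond_false]
    have hb := fun k u m h => chain_bound (T := T6) Data.E6.valid hr s.isLt k u m h
    obtain ⟨l1, v1⟩ := vec_rtS t _ (hb 1)
    obtain ⟨l2, v2⟩ := vec_rtS (t ^ 2) _ (hb 2)
    obtain ⟨l3, v3⟩ := vec_rtS (t ^ 3) _ (hb 3)
    refine ⟨fun p h => ?_, ?_⟩
    · simp only [List.mem_cons, List.mem_append] at h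
      rcases h with rfl | (h | h) | h
      exacts [hs78, l1 p h, l2 p h, l3 p h]
    · rw [← List.singleton_append, vec_append, vec_append, vec_append, v1, v2, v3]
      congr 1
      funext k
      simp [colA, h1, h2]

/-- The image of a sparse vector under a word. -/
def appW : List (ℕ × R) → List (ℕ × R) → List (ℕ × R)
  | [], l => l
  | p :: w, l => comb (colS p.1 p.2) (appW w l)

theorem vec_appW : ∀ (w l : List (ℕ × R)), (∀ p ∈ w, p.1 < (T6).n) → (∀ p ∈ l, p.1 < 78) →
    (∀ p ∈ appW w l, p.1 < 78) ∧
      vec (appW w l) = (w.map fun p => (X R p.1 p.2 : Matrix I6 I6 R)).prod *ᵥ vec l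
  | [], l, _, hl => ⟨hl, by simp [appW]⟩
  | q :: w, l, hw, hl => by
    obtain ⟨h1, h3⟩ := vec_appW w l (fun p hp => hw p (List.mem_cons_of_mem _ hp)) hl
    have hq := hw q List.mem_cons_self
    have hX : spMat (colS q.1 q.2) = (X R q.1 q.2 : Matrix I6 I6 R) := by
      ext i j
      exact congrFun (colS_spec hq q.2 j).2 i
    refine ⟨fun p hp => ?_, ?_⟩
    · simp only [appW, comb, List.mem_flatMap, List.mem_map] at hp
      obtain ⟨a, ha, b, hb, rfl⟩ := hp
      have hb' : b ∈ colS q.1 q.2 (pos (idx a.1)) := by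
        rwa [idx, pos_unpos, show (Fin.ofNat 78 a.1).val = a.1 from Nat.mod_eq_of_lt (h1 a ha)]
      exact (colS_spec hq q.2 (idx a.1)).1 b hb'
    · rw [appW, vec_comb _ _ h1, hX, h3, List.map_cons, List.prod_cons, Matrix.mulVec_mulVec]

/-- The sparse column of a bit string. -/
def bitsL (R : Type*) [CommRing R] (v : ℕ) : List (ℕ × R) :=
  ((List.range 78).filter fun k => v.testBit k).map fun k => (k, 1)

theorem bitsL_lt (v : ℕ) : ∀ p ∈ bitsL R v, p.1 < 78 := by
  intro p hp
  obtain ⟨k, hk, rfl⟩ := List.mem_map.mp hp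
  exact List.mem_range.mp (List.mem_filter.mp hk).1

theorem vec_bitsL (v : ℕ) : vec (bitsL R v) = fun i => bitK R v (pos i) := by
  funext i
  rw [show vec (bitsL R v) i = coef (bitsL R v) (pos i) from rfl, bitsL,
    coef_map (fun _ => (1 : R)) _ _ (List.nodup_range.filter _)]
  simp [bitK, pos_lt i]

/-- A word carries a basis to the columns coded by `C`. -/
def chkWord [DecidableEq R] (w : List (ℕ × R)) (col : ℕ → List (ℕ × R)) (C : List ℕ) : Bool :=
  w.all (fun p => Nat.blt p.1 (T6).n) && allLt (fun j => (col j).all (fun p => Nat.blt p.1 78) &&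
    let y := appW w (col j)
    let z := comb col (bitsL R (C.getD j 0))
    allLt (fun i => decide (coef y i = coef z i)) 78) 78

theorem chkWord_sound [DecidableEq R] {w : List (ℕ × R)} {col : ℕ → List (ℕ × R)} {C : List ℕ}
    (h : chkWord w col C = true) :
    (w.map fun p => (X R p.1 p.2 : Matrix I6 I6 R)).prod * spMat col = spMat col * mat R C := by
  ext i j
  rw [chkWord, Bool.and_eq_true, List.all_eq_true] at h
  have hw : ∀ p ∈ w, p.1 < (T6).n := fun p hp => Nat.le_of_ble_eq_true (h.1 p hp)
  have h1 := allLt_iff.mp h.2 (pos j) (pos_lt j)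
  simp only [Bool.and_eq_true, List.all_eq_true, allLt_iff, decide_eq_true_eq] at h1
  have hl : ∀ p ∈ col (pos j), p.1 < 78 := fun p hp => Nat.le_of_ble_eq_true (h1.1 p hp)
  have h3 : vec (appW w (col (pos j))) i = vec (comb col (bitsL R (C.getD (pos j) 0))) i :=
    h1.2 (pos i) (pos_lt i)
  rw [(vec_appW w _ hw hl).2, vec_comb col _ (bitsL_lt _), vec_bitsL] at h3
  exact h3

/-- Two families of sparse columns are inverse. -/
def chkInv [DecidableEq R] (col col' : ℕ → List (ℕ × R)) : Bool :=
  allLt (fun j => (col' j).all (fun p => Nat.blt p.1 78) &&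
    let z := comb col (col' j)
    allLt (fun i => decide (coef z i = if i = j then 1 else 0)) 78) 78

theorem chkInv_sound [DecidableEq R] {col col' : ℕ → List (ℕ × R)} (h : chkInv col col' = true) :
    spMat col * spMat col' = (1 : Matrix I6 I6 R) := by
  ext i j
  have h1 := allLt_iff.mp h (pos j) (pos_lt j)
  simp only [Bool.and_eq_true, List.all_eq_true, allLt_iff, decide_eq_true_eq] at h1
  have h3 : vec (comb col (col' (pos j))) i = _ := h1.2 (pos i) (pos_lt i)
  rw [vec_comb col _ fun p hp => Nat.le_of_ble_eq_true (h1.1 p hp)] at h3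
  refine h3.trans ?_
  rw [Matrix.one_apply]
  by_cases e : i = j
  · rw [e, if_pos rfl, if_pos rfl]
  · rw [if_neg e, if_neg fun e' => e (pos_injective e')]

end CfsgLib.Chevalley.FiInE6
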