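import Cfsg.Agent.Lib.Chevalley.FiInE6.Bits

/-!
Fast evaluation of products of coded matrices: all columns of a factor in one number, 80 bits each.
-/

set_option autoImplicit false

namespace CfsgLib.Chevalley.FiInE6

/-- The bound on columns. -/
def colW : ℕ := 1208925819614629174706176

theorem colW_eq : colW = 2 ^ 80 := by decide +kernel

/-- All columns in one number. -/
def pack : List ℕ → ℕ
  | [] => 0
  | b :: l => colW * pack l + b

/-- The columns of a number. -/
def unpack : ℕ → ℕ → List ℕ
  | 0, _ => []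
  | n + 1, P => P % colW :: unpack n (P / colW)

/-- The lowest bits of all columns. -/
def comb78 : ℕ := pack (List.replicate 78 1)

/-- The packed product. -/
def appP : List ℕ → ℕ → ℕ → ℕ
  | [], _, _ => 0
  | a :: A, k, P => Nat.xor (a * Nat.land (Nat.shiftRight P k) comb78) (appP A (k + 1) P)

/-- The product, fast. -/
def mulF (A B : List ℕ) : List ℕ := unpack 78 (appP A 0 (pack B))

/-- The product of a list, fast. -/
def prodF : List (List ℕ) → List ℕ
  | [] => oneC
  | A :: l => mulF A (prodF l)

/-- A code of a matrix. -/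
def okM (C : List ℕ) : Bool := Nat.beq C.length 78 && C.all fun c => Nat.blt c colW

theorem okM_iff {C : List ℕ} : okM C = true ↔ C.length = 78 ∧ ∀ c ∈ C, c < colW := by
  simp only [okM, Bool.and_eq_true, List.all_eq_true]
  exact and_congr ⟨Nat.eq_of_beq_eq_true, fun e => by rw [e]; exact Nat.beq_refl _⟩
    ⟨fun h c hc => Nat.le_of_ble_eq_true (h c hc), fun h c hc => Nat.ble_eq_true_of_le (h c hc)⟩

theorem unpack_pack : ∀ l : List ℕ, (∀ b ∈ l, b < colW) → unpack l.length (pack l) = l
  | [], _ => rfl
  | b :: l, h => by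
    have hb := h b List.mem_cons_self
    rw [List.length_cons, unpack, pack, Nat.mul_add_mod, Nat.mod_eq_of_lt hb,
      Nat.mul_add_div (Nat.zero_lt_of_lt hb), Nat.div_eq_of_lt hb, add_zero,
      unpack_pack l fun c hc => h c (List.mem_cons_of_mem _ hc)]

theorem testBit_pack_cons {b : ℕ} (hb : b < colW) (l : List ℕ) (i : ℕ) :
    (pack (b :: l)).testBit i = if i < 80 then b.testBit i else (pack l).testBit (i - 80) := by
  rw [pack, colW_eq]
  exact Nat.testBit_two_pow_mul_add (pack l) (colW_eq ▸ hb) i

theorem pack_xor {α : Type*} (f g : α → ℕ) : ∀ l : List α, (∀ a ∈ l, f a < colW ∧ g a < colW) →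
    pack (l.map f) ^^^ pack (l.map g) = pack (l.map fun a => f a ^^^ g a)
  | [], _ => by simp [pack]
  | a :: l, h => by
    obtain ⟨hf, hg⟩ := h a List.mem_cons_self
    have hx : f a ^^^ g a < colW := colW_eq ▸ Nat.xor_lt_two_pow (colW_eq ▸ hf) (colW_eq ▸ hg)
    refine Nat.eq_of_testBit_eq fun i => ?_
    simp only [List.map_cons, Nat.testBit_xor, testBit_pack_cons hf, testBit_pack_cons hg, testBit_pack_cons hx]
    rw [← pack_xor f g l fun b hb => h b (List.mem_cons_of_mem _ hb), Nat.testBit_xor]
    split_ifs <;> rfl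

theorem pack_map_mul {α : Type*} (a : ℕ) (f : α → ℕ) : ∀ l : List α,
    a * pack (l.map f) = pack (l.map fun b => a * f b)
  | [] => rfl
  | b :: l => by
    rw [List.map_cons, List.map_cons, pack, pack, ← pack_map_mul a f l]
    ring

theorem bit_land {k : ℕ} (hk : k < 80) : ∀ l : List ℕ, (∀ b ∈ l, b < colW) →
    (pack l >>> k) &&& pack (List.replicate l.length 1) =
      pack (l.map fun b => bif Nat.beq ((b >>> k) % 2) 1 then 1 else 0)
  | [], _ => by simp [pack]
  | b :: l, h => by
    have hb := h b List.mem_cons_self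
    have h1 : (1 : ℕ) < colW := by decide +kernel
    have hc : (bif Nat.beq ((b >>> k) % 2) 1 then 1 else 0 : ℕ) < colW := by
      cases Nat.beq ((b >>> k) % 2) 1 <;> simp <;> omega
    refine Nat.eq_of_testBit_eq fun i => ?_
    simp only [List.length_cons, List.replicate_succ, List.map_cons, Nat.testBit_and, Nat.testBit_shiftRight,
      testBit_pack_cons hb, testBit_pack_cons h1, testBit_pack_cons hc]
    by_cases hi : i < 80
    · rw [if_pos hi, if_pos hi]
      by_cases h0 : i = 0
      · subst h0
        rw [if_pos (by omega), show k + 0 = 0 + k by omega, Nat.testBit_add, Nat.testBit_zero, Nat.testBit_zero,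
          Nat.testBit_zero]
        by_cases hm : (b >>> k) % 2 = 1
        · rw [Nat.shiftRight_eq_div_pow] at hm ⊢
          simp [hm]
        · rw [Nat.shiftRight_eq_div_pow] at hm ⊢
          simp [show Nat.beq (b / 2 ^ k % 2) 1 = false from
            Bool.eq_false_iff.mpr fun e => hm (Nat.eq_of_beq_eq_true e), hm]
      · have ht : Nat.testBit 1 i = false :=
          Bool.eq_false_iff.mpr fun e => h0 (Nat.testBit_one_eq_true_iff_self_eq_zero.mp e)
        cases Nat.beq ((b >>> k) % 2) 1 <;> simp [ht]
    · rw [if_neg hi, if_neg hi, if_neg (by omega), show k + i - 80 = k + (i - 80) by omega,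
        ← bit_land hk l fun c hc => h c (List.mem_cons_of_mem _ hc), Nat.testBit_and, Nat.testBit_shiftRight]

theorem apL_lt : ∀ {A : List ℕ}, (∀ a ∈ A, a < colW) → ∀ v, apL A v < colW
  | [], _, _ => by simp [apL, colW]
  | a :: A, h, v => by
    rw [apL, colW_eq]
    refine Nat.xor_lt_two_pow ?_ (colW_eq ▸ apL_lt (fun b hb => h b (List.mem_cons_of_mem _ hb)) _)
    cases Nat.beq (v % 2) 1
    · exact Nat.two_pow_pos 80
    · exact colW_eq ▸ h a List.mem_cons_self

theorem appP_eq {B : List ℕ} (hBl : B.length = 78) (hB : ∀ b ∈ B, b < colW) : ∀ (A : List ℕ) (k : ℕ),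
    k + A.length ≤ 80 → (∀ a ∈ A, a < colW) → appP A k (pack B) = pack (B.map fun b => apL A (b >>> k))
  | [], k, _, _ => by
    have hz : ∀ l : List ℕ, pack (l.map fun b => apL [] (b >>> k)) = 0 := by
      intro l
      induction l with
      | nil => rfl
      | cons b l ih => rw [List.map_cons, pack, ih]; rfl
    rw [hz]; rfl
  | a :: A, k, hk, hA => by
    rw [List.length_cons] at hk
    have hA' : ∀ x ∈ A, x < colW := fun x hx => hA x (List.mem_cons_of_mem _ hx)
    have ha := hA a List.mem_cons_self
    rw [appP, appP_eq hBl hB A (k + 1) (by omega) hA']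
    show (a * ((pack B >>> k) &&& comb78)) ^^^ _ = _
    rw [comb78, ← hBl, bit_land (show k < 80 by omega) B hB, pack_map_mul, pack_xor _ _ _ fun b _ => ⟨?_, apL_lt hA' _⟩]
    · congr 1
      refine List.map_congr_left fun b _ => ?_
      rw [apL, show b >>> k / 2 = b >>> (k + 1) from (Nat.shiftRight_succ b k).symm]
      cases Nat.beq ((b >>> k) % 2) 1 <;> simp
    · cases Nat.beq ((b >>> k) % 2) 1
      · simpa using Nat.zero_lt_of_lt ha
      · simpa using ha

theorem mulF_eq {A B : List ℕ} (hA : okM A = true) (hB : okM B = true) :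
    mulF A B = mulC A B ∧ okM (mulC A B) = true := by
  obtain ⟨hAl, hAb⟩ := okM_iff.mp hA
  obtain ⟨hBl, hBb⟩ := okM_iff.mp hB
  have hb : ∀ b ∈ mulC A B, b < colW := fun b hb => by
    obtain ⟨c, -, rfl⟩ := List.mem_map.mp hb
    exact apL_lt hAb c
  refine ⟨?_, okM_iff.mpr ⟨mulC_length hBl, hb⟩⟩
  rw [mulF, appP_eq hBl hBb A 0 (by omega) hAb,
    show (B.map fun b => apL A (b >>> 0)) = mulC A B from List.map_congr_left fun b _ => by rw [Nat.shiftRight_zero],
    show 78 = (mulC A B).length from (mulC_length hBl).symm]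
  exact unpack_pack _ hb

theorem okM_one : okM oneC = true := by decide +kernel

theorem prodF_eq : ∀ {l : List (List ℕ)}, (∀ A ∈ l, okM A = true) → prodF l = prodC l ∧ okM (prodC l) = true
  | [], _ => ⟨rfl, okM_one⟩
  | A :: l, h => by
    obtain ⟨e, ho⟩ := prodF_eq (l := l) fun B hB => h B (List.mem_cons_of_mem _ hB)
    rw [prodF, prodC, e]
    exact mulF_eq (h A List.mem_cons_self) ho

end CfsgLib.Chevalley.FiInE6
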