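import Cfsg.Agent.Lib.Chevalley.FiInE6.Fusion
import Cfsg.Agent.S2079

/-!
Three classes of subgroups Fi22 in ²E₆(2).
-/

set_option autoImplicit false
set_option maxRecDepth 20000

namespace CfsgLib.Chevalley.FiInE6

open CfsgLib.Sporadic CfsgLib.Sporadic.CosetCert

theorem fischer_three {K : Type*} [Field K] [Finite K] (hK : Nat.card K = 4) :
    ∃ H : Fin 3 → Subgroup ↥(F4InE6.twisted K),
      (∀ i, Cfsg.Spor.IsoFi22 (H i)) ∧
      (∀ i j, i ≠ j → ∀ g : ↥(F4InE6.twisted K), (H i).map (MulAut.conj g).toMonoidHom ≠ H j) := by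
  obtain ⟨φ⟩ := exists_ringHom (K := K) hK
  have := FiP.finite
  have hc := Cfsg.Agent.S2079.result
  have : Finite (Cfsg.Out Cfsg.Spor.Fi22) := Nat.finite_of_card_ne_zero (by rw [hc]; norm_num)
  refine exists_three hK φ (hom φ) (hom_injective φ) (fun k _ hk' => ?_) (hom_mem φ)
    (sq_inner (MulEquiv.refl _) fun x => ?_)
  · have key : ∀ j < 9, FiP.code (FiP.gens.getD j Cfsg.Spor.Fi22.Gen.a) = j := by decide
    exact ⟨_, (hom_mk_of φ _).trans (congrArg (invU φ) (key k hk'))⟩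
  · have := pow_card_eq_one' (x := x)
    rwa [hc, pow_two] at this

end CfsgLib.Chevalley.FiInE6
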