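import Cfsg.Agent.Lib.Chevalley.FiInE6.Emb
import Cfsg.Prelude.Def_KGroupFacts

/-!
Three classes of subgroups Fi22 and O₇(3) in ²E₆(2).
-/

set_option autoImplicit false
set_option maxRecDepth 20000

namespace CfsgLib.Chevalley.FiInE6

open Tbl CfsgLib.Sporadic

local notation "T6" => Data.E6.tbl

variable {K : Type*} [Field K]

/-- In a group with outer automorphism group of exponent two, the square of an automorphism is a conjugation. -/
theorem sq_inner {A B : Type*} [Group A] [Group B] (e : A ≃* B) (hB : ∀ x : Cfsg.Out B, x * x = 1) (α : MulAut A) :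
    ∃ c : A, ∀ a, α (α a) = c * a * c⁻¹ := by
  have h := hB (QuotientGroup.mk (e.symm.trans (α.trans e)))
  rw [← QuotientGroup.mk_mul, QuotientGroup.eq_one_iff] at h
  obtain ⟨b, hb⟩ := h
  refine ⟨e.symm b, fun a => e.injective ?_⟩
  rw [map_mul, map_mul, map_inv, MulEquiv.apply_symm_apply]
  have h1 : e (α (e.symm (e (α (e.symm (e a)))))) = b * e a * b⁻¹ := (DFunLike.congr_fun hb (e a)).symm
  simpa only [MulEquiv.symm_apply_apply] using h1

/-- A conjugation by an element of the twisted group times an outer diagonal element fixing such a subgroup is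
inner. -/
theorem no_fusion (φ : FieldFour →+* K) (h3 : ∀ a : Kˣ, a ^ 3 = 1) {A : Type*} [Group A] [Finite A]
    (f : A →* GL I6 K) (hf : Function.Injective f)
    (hgen : ∀ k, 0 < k → k < 9 → ∃ a, f a = invU φ k) (hmem : ∀ a, f a ∈ F4InE6.twisted K)
    (hout : ∀ α : MulAut A, ∃ c, ∀ a, α (α a) = c * a * c⁻¹)
    {g : GL I6 K} (hg : g ∈ F4InE6.twisted K) {u : Kˣ}
    (hkeep : ∀ a, ∃ b, g * (T6).dU (F4InE6.outChar u) * f a * (g * (T6).dU (F4InE6.outChar u))⁻¹ = f b) :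
    u = 1 := by
  set d : GL I6 K := (T6).dU (F4InE6.outChar u) with hd
  choose α hα using hkeep
  let αh : A →* A := MonoidHom.mk' α fun a b => hf (by
    rw [← hα, map_mul, map_mul, ← hα, ← hα]
    group)
  have hinj : Function.Injective αh := fun a b e => hf (by
    have h : f (α a) = f (α b) := congrArg f e
    rw [← hα, ← hα] at h
    exact mul_left_cancel (mul_right_cancel h))
  obtain ⟨c, hc⟩ := hout (MulEquiv.ofBijective αh (Finite.injective_iff_bijective.mp hinj))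
  obtain ⟨y, hy⟩ : ∃ y, y = (f c)⁻¹ * (g * d * (g * d)) := ⟨_, rfl⟩
  have hcomm : ∀ a, Commute y (f a) := fun a => by
    have h1 : f (α (α a)) = f c * f a * (f c)⁻¹ := by
      rw [← map_inv f c, ← map_mul, ← map_mul]
      exact congrArg f (hc a)
    rw [← hα, ← hα] at h1
    refine mul_inv_eq_iff_eq_mul.mp ?_
    calc y * f a * y⁻¹ = (f c)⁻¹ * (g * d * (g * d * f a * (g * d)⁻¹) * (g * d)⁻¹) * f c := by rw [hy]; group
      _ = f a := by rw [h1]; group
  obtain ⟨s, hs⟩ := scalar_of_commute φ (u := y) fun k hk hk' => by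
    obtain ⟨a, ha⟩ := hgen k hk hk'
    exact ha ▸ hcomm a
  have hall : ∀ v : GL I6 K, y * v * y⁻¹ = v := fun v => by
    rw [mul_inv_eq_iff_eq_mul]
    refine Units.ext ?_
    rw [Units.val_mul, Units.val_mul, hs, Matrix.smul_mul, Matrix.mul_smul, one_mul, mul_one]
  have hy' : y = (f c)⁻¹ * (g * (d * g * d⁻¹)) * (T6).dU (F4InE6.outChar (u * u)) := by
    rw [← F4InE6.outChar_mul, ← dU_mul, ← hd, hy]
    group
  have h := F4InE6.no_fusion (two_eq_zero φ) h3
    (F4InE6.twisted_le_group (mul_mem (inv_mem (hmem c)) (mul_mem hg (F4InE6.conj_outer u hg)))) (u := u * u)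
    fun a => ⟨a, by rw [← hd, ← hy']; exact hall _⟩
  have h' := h3 u
  rwa [pow_succ, pow_two, h, one_mul] at h'

theorem exists_ringHom [Finite K] (hK : Nat.card K = 4) : Nonempty (FieldFour →+* K) := by
  have := Fintype.ofFinite K
  exact ⟨(FiniteField.ringEquivOfCardEq (by rw [FieldFour.card_eq, ← Nat.card_eq_fintype_card, hK]) :
    FieldFour ≃+* K).toRingHom⟩

theorem exists_three [Finite K] (hK : Nat.card K = 4) (φ : FieldFour →+* K) {A : Type*} [Group A] [Finite A]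
    (f : A →* GL I6 K) (hf : Function.Injective f)
    (hgen : ∀ k, 0 < k → k < 9 → ∃ a, f a = invU φ k) (hmem : ∀ a, f a ∈ F4InE6.twisted K)
    (hout : ∀ α : MulAut A, ∃ c, ∀ a, α (α a) = c * a * c⁻¹) :
    ∃ H : Fin 3 → Subgroup ↥(F4InE6.twisted K),
      (∀ i, Nonempty ((H i) ≃* A)) ∧
      (∀ i j, i ≠ j → ∀ g : ↥(F4InE6.twisted K), (H i).map (MulAut.conj g).toMonoidHom ≠ H j) := by
  have hcu : Nat.card Kˣ = 3 := by rw [Nat.card_units, hK]
  have h3 : ∀ a : Kˣ, a ^ 3 = 1 := fun a => hcu ▸ pow_card_eq_one'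
  obtain ⟨w, hw⟩ : ∃ w : Fin 3 → Kˣ, Function.Injective w :=
    ⟨(Finite.equivFinOfCardEq hcu).symm, Equiv.injective _⟩
  let F : Fin 3 → (A →* ↥(F4InE6.twisted K)) := fun i =>
    ((MulAut.conj ((T6).dU (F4InE6.outChar (w i)) : GL I6 K)).toMonoidHom.comp f).codRestrict (F4InE6.twisted K)
      fun a => F4InE6.conj_outer (w i) (hmem a)
  have hF : ∀ i, Function.Injective (F i) := fun i a b e =>
    hf ((MulAut.conj _).injective (congrArg Subtype.val e))
  refine ⟨fun i => (F i).range, fun i => ⟨(MonoidHom.ofInjective (hF i)).symm⟩, fun i j hij g he => ?_⟩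
  refine hij (hw (mul_inv_eq_one.mp (no_fusion φ h3 f hf hgen hmem hout (u := w i * (w j)⁻¹)
    (g := ((T6).dU (F4InE6.outChar (w j)⁻¹) : GL I6 K) * g.1 * ((T6).dU (F4InE6.outChar (w j)⁻¹))⁻¹)
    (F4InE6.conj_outer (w j)⁻¹ g.2) fun a => ?_)))
  have h1 : MulAut.conj g (F i a) ∈ (F j).range :=
    (SetLike.ext_iff.mp he _).mp (Subgroup.mem_map_of_mem (MulAut.conj g).toMonoidHom ⟨a, rfl⟩)
  obtain ⟨b, hb⟩ := h1
  refine ⟨b, ?_⟩
  have hb' : ((T6).dU (F4InE6.outChar (w j)) : GL I6 K) * f b * ((T6).dU (F4InE6.outChar (w j)))⁻¹ =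
      g.1 * ((T6).dU (F4InE6.outChar (w i)) * f a * ((T6).dU (F4InE6.outChar (w i)))⁻¹) * g.1⁻¹ :=
    congrArg Subtype.val hb
  have hone : ((T6).dU (F4InE6.outChar (w j)⁻¹) : GL I6 K) * (T6).dU (F4InE6.outChar (w j)) = 1 := by
    rw [dU_mul, F4InE6.outChar_mul, inv_mul_cancel, F4InE6.outChar_one, dU_one]
  rw [← inv_eq_of_mul_eq_one_right hone] at hb'
  rw [mul_comm (w i) (w j)⁻¹, ← F4InE6.outChar_mul, ← dU_mul]
  generalize ((T6).dU (F4InE6.outChar (w j)⁻¹) : GL I6 K) = d at hb' ⊢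
  generalize ((T6).dU (F4InE6.outChar (w i)) : GL I6 K) = e at hb' ⊢
  calc d * g.1 * d⁻¹ * (d * e) * f a * (d * g.1 * d⁻¹ * (d * e))⁻¹
      = d * (g.1 * (e * f a * e⁻¹) * g.1⁻¹) * d⁻¹ := by group
    _ = d * (d⁻¹ * f b * d⁻¹⁻¹) * d⁻¹ := by rw [hb']
    _ = f b := by group

end CfsgLib.Chevalley.FiInE6
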