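import Cfsg.Agent.Lib.Chevalley.FiInE6.Eval
import Cfsg.Agent.Lib.Chevalley.FiInE6.Data
import Cfsg.Agent.Lib.Sporadic.FieldFour

/-!
The generators of ²E₆(2) on the fixed basis.
-/

set_option autoImplicit false
set_option maxRecDepth 100000
set_option Elab.async false

namespace CfsgLib.Chevalley.FiInE6

open Tbl CfsgLib.Sporadic

/-- The element with a code. -/
def toF : ℕ → FieldFour
  | 0 => 0
  | 1 => 1
  | 2 => ⟨0, 1⟩
  | _ => ⟨1, 1⟩

/-- The sparse columns of the basis. -/
def colP (j : ℕ) : List (ℕ × FieldFour) := (colPL.getD j []).map fun p => (p.1, toF p.2)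

/-- The sparse columns of the inverse. -/
def colQ (j : ℕ) : List (ℕ × FieldFour) := (colQL.getD j []).map fun p => (p.1, toF p.2)

/-- The words of the generators. -/
def genW : List (List (ℕ × ℕ)) :=
  [[(46, 1)], [(25, 1)], [(39, 1)], [(32, 1)], [(56, 1), (36, 1)], [(56, 2), (36, 3)], [(15, 1), (35, 1)],
    [(15, 2), (35, 3)], [(42, 1), (37, 1)], [(42, 2), (37, 3)], [(29, 1), (34, 1)], [(29, 2), (34, 3)]]

/-- The check for one generator. -/
def chkGen (g : ℕ) : Bool :=
  chkWord ((genW.getD g []).map fun p => (p.1, toF p.2)) colP (genC.getD g [])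

theorem chk_inv : chkInv colP colQ = true ∧ chkInv colQ colP = true := by decide +kernel

theorem chk_gen0 : chkGen 0 = true := by decide +kernel
theorem chk_gen1 : chkGen 1 = true := by decide +kernel
theorem chk_gen2 : chkGen 2 = true := by decide +kernel
theorem chk_gen3 : chkGen 3 = true := by decide +kernel
theorem chk_gen4 : chkGen 4 = true := by decide +kernel
theorem chk_gen5 : chkGen 5 = true := by decide +kernel
theorem chk_gen6 : chkGen 6 = true := by decide +kernel
theorem chk_gen7 : chkGen 7 = true := by decide +kernel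
theorem chk_gen8 : chkGen 8 = true := by decide +kernel
theorem chk_gen9 : chkGen 9 = true := by decide +kernel
theorem chk_gen10 : chkGen 10 = true := by decide +kernel
theorem chk_gen11 : chkGen 11 = true := by decide +kernel

theorem chk_gen {g : ℕ} (h : g < 12) : chkGen g = true := by
  interval_cases g
  exacts [chk_gen0, chk_gen1, chk_gen2, chk_gen3, chk_gen4, chk_gen5, chk_gen6, chk_gen7, chk_gen8, chk_gen9,
    chk_gen10, chk_gen11]

end CfsgLib.Chevalley.FiInE6
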