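import Cfsg.Agent.Lib.Chevalley.FiInE6.Fusion
import Cfsg.Agent.S1686
import Cfsg.Agent.S2604

/-!
Three classes of subgroups O₇(3) in ²E₆(2).
-/

set_option autoImplicit false
set_option maxRecDepth 20000

namespace CfsgLib.Chevalley.FiInE6

open CfsgLib.Sporadic CfsgLib.Sporadic.CosetCert CfsgLib.Orth CfsgLib.Classical

/-- The outer automorphism group of PΩ₇(3) has exponent two. -/
theorem out_seven (x : Cfsg.Out (Cfsg.POmega (ZMod 3) (Cfsg.quadFormOdd 3 (ZMod 3)))) : x * x = 1 := by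
  have : Fact (Nat.Prime 3) := ⟨Nat.prime_three⟩
  obtain ⟨e⟩ := Cfsg.Agent.S2604.result (F := ZMod 3) (p := 3) (f := 1) (m := 3) le_rfl
    (by rw [ZMod.card, pow_one]) (by norm_num) le_rfl
  refine e.injective ?_
  rw [map_mul, map_one]
  generalize e x = y
  revert y
  decide

theorem oSeven_three {K : Type*} [Field K] [Finite K] (hK : Nat.card K = 4) :
    ∃ H : Fin 3 → Subgroup ↥(F4InE6.twisted K),
      (∀ i, Nonempty ((H i) ≃* Cfsg.Omega (ZMod 3) (Cfsg.quadFormOdd 3 (ZMod 3)))) ∧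
      (∀ i j, i ≠ j → ∀ g : ↥(F4InE6.twisted K), (H i).map (MulAut.conj g).toMonoidHom ≠ H j) := by
  obtain ⟨φ⟩ := exists_ringHom (K := K) hK
  obtain ⟨e0⟩ := Cfsg.Agent.S1686.center_free
  let E := omegaEquiv (oddForm (ZMod 3) 3) (oddForm_apply (F := ZMod 3) 3)
  have := FiP.finite
  obtain ⟨H, h1, hH⟩ := exists_three hK φ ((hom φ).comp (FiP.sub [1, 2, 3, 4, 5, 6, 7, 8]).subtype)
    ((hom_injective φ).comp Subtype.val_injective)
    (fun k hk hk' => by
      have hr := FiP.subsOf_mem (l := [1, 2, 3, 4, 5, 6, 7, 8]) (by decide)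
        (FreeGroup.of (FiP.gens.getD k Cfsg.Spor.Fi22.Gen.a)) (List.mem_map.mpr ⟨k, by simp; omega, rfl⟩)
      refine ⟨⟨_, hr⟩, ?_⟩
      have key : ∀ j < 9, FiP.code (FiP.gens.getD j Cfsg.Spor.Fi22.Gen.a) = j := by decide
      exact (hom_mk_of φ _).trans (congrArg (invU φ) (key k hk')))
    (fun a => hom_mem φ a.1) (sq_inner (O7P.equivOm.trans e0) out_seven)
  refine ⟨H, fun i => ?_, hH⟩
  obtain ⟨ei⟩ := h1 i
  exact ⟨ei.trans (O7P.equivOm.trans E.symm)⟩

end CfsgLib.Chevalley.FiInE6
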